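import Cfsg.Agent.BH.TT.DQ

/-!
# BH (S4524): the boxes EXT and MIN (helper39)
-/

set_option autoImplicit false
set_option linter.style.haveILetI false
set_option linter.unusedSectionVars false

open Cfsg
open scoped commutatorElement

namespace Cfsg.Agent.BH

open Cfsg.Agent Cfsg.Agent.Characters.Core Cfsg.Agent.Blocks Cfsg.Agent.TID.Red Cfsg.Agent.KM.BK Cfsg.Agent.KM.Mu
open Cfsg.Agent.H592.Har Cfsg.Agent.H658.KKL.FongTwo
open Cfsg.Agent.H592.Transport (tr tr_apply)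
open Cfsg.Agent.OddOrderCharacters.PF9.CliffGen (inertia mem_inertia' le_inertia)

namespace Mn

open TB

universe u

variable {p : ℕ} [Fact p.Prime] {M : Ideal AlgInt} {G : Type u} [Group G] [Finite G]
  {B : Set (IrrCharacter G)} {D : Subgroup G} {N : Subgroup G} [hN : N.Normal]

/-- an invariant character below a character of height zero extends to `N D` -/
theorem ext0 (hM : IsPModular p M) (hB : IsPBlock M B) (hD : IsDefectGroup p M B D) {θ : IrrCharacter N}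
    (hinv : ∀ (g : G) (n : N), (θ : N → ℂ) ⟨g * n * g⁻¹, hN.conj_mem n n.2 g⟩ = (θ : N → ℂ) n)
    {χ : IrrCharacter G} (hχ : χ ∈ B) (hov : Ov N.subtype (χ : G → ℂ) (θ : N → ℂ))
    (h0 : df p χ = (Nat.card D).factorization p) : ∃ ξ : IrrCharacter (N ⊔ D : Subgroup G),
      ∀ n : N, (ξ : (N ⊔ D : Subgroup G) → ℂ) ⟨n, le_sup_left (b := D) n.2⟩ = (θ : N → ℂ) n := by
  have := Local.isPrime_of_isPModular hM
  letI := Fintype.ofFinite N
  have hDp := H592.Defect.isPGroup_of_isDefectGroup hD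
  obtain ⟨q, E, i1, i2, C, hf⟩ := exists_cover N θ hinv
  obtain ⟨η, h⟩ := C.exists_star θ.2 χ ((ov_subtype_iff N _ _).1 hov)
  obtain ⟨R, hR, hRD, hRc⟩ := exists_R C.surj hDp
  obtain ⟨y, hy, hs⟩ := syl C hM θ.2 hB hD hχ h hR hRD hRc
  have hb : IsPBlock M (blockOf M (η : E ⧸ C.s.range → ℂ)) := ⟨η, rfl⟩
  have h4 : (Nat.card (R.map (QuotientGroup.mk' C.s.range))).factorization p ≤ df p η := by
    have h4 := fac_R C hDp hR hRD hRc
    have h5 := df_star (p := p) C h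
    have h6 := TT.df_le_inf hM hB hD ⟨χ, hχ, hov⟩ hinv
    omega
  have hd := defect_of_unit hM hb (Basic.mem_blockOf_self η) hy hs h4
  set R' := R.map (QuotientGroup.mk' C.s.range) with hR'
  have hη1 := isIrr_apply_one_ne_zero η.2
  have hψ1 := isIrr_apply_one_ne_zero C.irr
  obtain ⟨c, hc⟩ := exists_om (G := E) ⟨_, C.irr⟩
  obtain ⟨c', hc'⟩ := exists_om η
  have hU : C.Z ⊓ R' ≤ Subgroup.center (E ⧸ C.s.range) := inf_le_left.trans C.Z_le_center
  obtain ⟨μ, hμ⟩ := S5001.result p M hM _ hb R' hd (C.Z ⊓ R') hU ((hR.map _).to_le inf_le_right) inf_le_right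
    (c'.comp (Subgroup.inclusion hU)) η (Basic.mem_blockOf_self η) (fun z => by
      have h1 := hc' 1 (Subgroup.inclusion hU z)
      rwa [one_mul] at h1) (height_zero hM hb hd h4)
  have hdec : ∀ w : E, C.π w ∈ N ⊔ D → ∃ z ∈ Subgroup.center (E ⧸ C.s.range),
      ∃ r ∈ R', (w : E ⧸ C.s.range) = z * r := by
    intro w hw
    obtain ⟨n, hn, d, hd', h1⟩ := Subgroup.mem_sup_of_normal_left.1 hw
    obtain ⟨r, hr, rfl⟩ := hRD.ge hd'
    refine ⟨(w * r⁻¹ : E), C.Z_le_center (C.mem_Z_of_mem ?_), r, ⟨r, hr, rfl⟩, ?_⟩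
    · rwa [map_mul, map_inv, ← h1, mul_inv_cancel_right]
    · rw [← QuotientGroup.mk_mul, inv_mul_cancel_right]
  set W : Subgroup E := (N ⊔ D).comap C.π with hW
  have hkW : C.π.ker ≤ W := Subgroup.ker_le_comap _ _
  have hsW : C.s.range ≤ W := by
    rintro _ ⟨n, rfl⟩
    rw [hW, Subgroup.mem_comap, C.sec]
    exact le_sup_left (b := D) n.2
  obtain ⟨l, hl1, hl2⟩ := PB.ext_mod
    (N := (μ.ker.map R'.subtype).comap ((QuotientGroup.mk' C.s.range).comp W.subtype)) (fun a b => by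
      obtain ⟨u, hu, r, hr, h1⟩ := hdec a a.2
      obtain ⟨v, hv, t, ht, h2⟩ := hdec b b.2
      have h3 := Subgroup.mem_center_iff.1 hu
      have h5 := Subgroup.mem_center_iff.1 hv
      refine ⟨(⟨r, hr⟩ : R')⁻¹ * (⟨t, ht⟩ * ⟨r, hr⟩ * (⟨t, ht⟩ : R')⁻¹), ?_, ?_⟩
      · change μ _ = 1
        rw [map_mul, map_mul, map_mul, map_inv, map_inv, mul_inv_cancel_comm, inv_mul_cancel]
      · rw [map_mul, map_mul, map_mul, map_inv, map_inv, map_mul, map_mul, map_mul, map_inv, map_inv]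
        change r⁻¹ * (t * r * t⁻¹) = ((a : E) : E ⧸ C.s.range)⁻¹ * (((b : E) : E ⧸ C.s.range) * (a : E) *
          ((b : E) : E ⧸ C.s.range)⁻¹)
        have h6 : v * t * (u * r) * (v * t)⁻¹ = u * (t * r * t⁻¹) := by
          rw [← h5 t, mul_assoc t, ← h5 (u * r), ← mul_assoc t, mul_inv_rev, mul_assoc _ v, mul_inv_cancel_left,
            ← mul_assoc t, h3 t]
          simp only [mul_assoc]
        rw [h1, h2, h6, mul_inv_rev, mul_assoc r⁻¹, inv_mul_cancel_left])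
    (Subgroup.inclusion hkW) (c.comp (Subgroup.inclusion C.ker_le))⁻¹ fun z hz => by
      obtain ⟨r, hr, h1⟩ := hz
      change (r : E ⧸ C.s.range) = ((z : E) : E ⧸ C.s.range) at h1
      have h2 : (r : E ⧸ C.s.range) ∈ C.Z := ⟨z, z.2, h1.symm⟩
      have h3 : c' ⟨r, C.Z_le_center h2⟩ = 1 := (hμ ⟨r, h2, r.2⟩).symm.trans hr
      have h5 := hc' 1 ⟨r, C.Z_le_center h2⟩
      have h6 := hc 1 ⟨z, C.ker_le z.2⟩
      rw [one_mul] at h5 h6
      rw [h3, Units.val_one, mul_one] at h5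
      change (η : E ⧸ C.s.range → ℂ) r = _ at h5
      change C.ψ z = C.ψ 1 * _ at h6
      have h7 := h z
      have h8 := h 1
      rw [MonoidHom.mem_ker.1 z.2, ← h1, h5] at h7
      rw [map_one, QuotientGroup.mk_one, h7] at h8
      rw [mul_right_cancel₀ hη1 h8] at h6
      change (c ⟨z, C.ker_le z.2⟩)⁻¹ = 1
      rw [inv_eq_one]
      exact Units.ext (mul_left_cancel₀ hψ1 (h6.symm.trans (mul_one _).symm))
  have hirr : IsIrrCharacter W fun w => C.ψ w * (l w : ℂ) :=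
    CharactersDeep.ExtUnique.isIrr_mul_hom (isIrr_res_of_le C θ.2 W hsW) l
  obtain ⟨ξ, hξ⟩ := H595.Central.descend (C.π.subgroupComap (N ⊔ D))
    (C.π.subgroupComap_surjective_of_surjective _ C.surj) ⟨_, hirr⟩ fun x k hk => by
      have h1 : (k : E) ∈ C.π.ker := congrArg Subtype.val hk
      have h2 := hl2 ⟨k, h1⟩
      have h3 := hc x ⟨k, C.ker_le h1⟩
      change l k = (c ⟨k, C.ker_le h1⟩)⁻¹ at h2
      change C.ψ ((x : E) * k) = C.ψ x * _ at h3
      change C.ψ ((x : E) * k) * (l (x * k) : ℂ) = C.ψ x * (l x : ℂ)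
      rw [map_mul, h2, h3, Units.val_mul, Units.val_inv_eq_inv_val]
      field_simp
  refine ⟨ξ, fun n => ?_⟩
  have h1 := hξ ⟨C.s n, hsW ⟨n, rfl⟩⟩
  have h2 : (C.π.subgroupComap (N ⊔ D)) ⟨C.s n, hsW ⟨n, rfl⟩⟩ = ⟨n, le_sup_left (b := D) n.2⟩ :=
    Subtype.ext (C.sec n)
  rw [h2] at h1
  rw [h1]
  change C.ψ (C.s n) * (l ⟨C.s n, hsW ⟨n, rfl⟩⟩ : ℂ) = _
  rw [hl1 ⟨C.s n, hsW ⟨n, rfl⟩⟩
    ⟨1, μ.ker.one_mem, ((QuotientGroup.eq_one_iff (N := C.s.range) (C.s n)).2 ⟨n, rfl⟩).symm⟩,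
    Units.val_one, mul_one, C.ext]

/-- the Clifford correspondent of a character of height zero -/
theorem cliff0 (hM : IsPModular p M) (hB : IsPBlock M B) (hD : IsDefectGroup p M B D) {θ : IrrCharacter N}
    {χ : IrrCharacter G} (hχ : χ ∈ B) (hov : Ov N.subtype (χ : G → ℂ) (θ : N → ℂ))
    (h0 : df p χ = (Nat.card D).factorization p) :
    ∃ (hNT : N ≤ inertia N (θ : N → ℂ)) (B' : Set (IrrCharacter (inertia N (θ : N → ℂ))))
      (D' : Subgroup (inertia N (θ : N → ℂ))), IsPBlock M B' ∧ IsDefectGroup p M B' D' ∧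
      IsDefectGroup p M B (D'.map (inertia N (θ : N → ℂ)).subtype) ∧
      ∃ ψ ∈ B', Ov (Subgroup.inclusion hNT) (ψ : inertia N (θ : N → ℂ) → ℂ) (θ : N → ℂ) ∧
        df p ψ = (Nat.card D').factorization p := by
  have := Local.isPrime_of_isPModular hM
  letI := Fintype.ofFinite G
  letI := Fintype.ofFinite N
  set T := inertia N (θ : N → ℂ) with hT
  letI := Fintype.ofFinite T
  have hNT : N ≤ T := le_inertia (isIrr_isClassFunction θ.2)
  obtain ⟨ψ, hψ, h1, h2⟩ := CharDeep.CliffordCorr.clifford_correspondence N (θ : N → ℂ) θ.2 T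
    (fun g => mem_inertia') hNT χ χ.2 ((ov_subtype_iff N _ _).1 hov)
  have hb : IsPBlock M (blockOf M ψ) := ⟨⟨ψ, hψ⟩, rfl⟩
  have hi : IsInducedBlock M T (blockOf M ψ) B := by
    have h3 := S0933.result p M hM T ⟨ψ, hψ⟩
      (by rw [show ((⟨ψ, hψ⟩ : IrrCharacter T) : T → ℂ) = ψ from rfl, h1]; exact χ.2)
    change IsInducedBlock M T (blockOf M ψ) (blockOf M (indFun T ψ)) at h3
    rwa [h1, ← Basic.isPBlock_eq_blockOf hB hχ] at h3
  obtain ⟨D', hD'⟩ := H592.Defect.exists_defectGroup p hM hb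
  obtain ⟨E, hE, hle⟩ := S0917.result p M hM T _ hb B hB hi D' hD'
  have hc : Nat.card (D'.map T.subtype) = Nat.card D' := Subgroup.card_map_of_injective T.subtype_injective
  have key : df p (⟨ψ, hψ⟩ : IrrCharacter T) = (Nat.card E).factorization p := by
    rw [← df_ind T ⟨ψ, hψ⟩ χ h1, h0, fac_defect hM hB hD hE]
  have hov' : Ov (Subgroup.inclusion hNT) ψ (θ : N → ℂ) := by
    rw [ov_iff]
    exact h2.trans_ne ((ov_subtype_iff N _ _).1 hov)
  have hm : (⟨ψ, hψ⟩ : IrrCharacter T) ∈ blockOf M ψ := Basic.mem_blockOf_self (⟨ψ, hψ⟩ : IrrCharacter T)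
  have h3 : D'.map T.subtype = E := H592.Defect.eq_of_le_of_factorization p
    ((H592.Defect.isPGroup_of_isDefectGroup hD').map _) (H592.Defect.isPGroup_of_isDefectGroup hE) hle (by
      rw [hc, ← key]
      exact df_le hM hb hD' hm)
  exact ⟨hNT, _, D', hb, hD', h3 ▸ hE, _, hm, hov', by rw [key, ← h3, hc]⟩

/-- a constituent of a character of height zero -/
theorem ext1 (hM : IsPModular p M) (hB : IsPBlock M B) (hD : IsDefectGroup p M B D) {θ : IrrCharacter N}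
    {χ : IrrCharacter G} (hχ : χ ∈ B) (hov : Ov N.subtype (χ : G → ℂ) (θ : N → ℂ))
    (h0 : df p χ = (Nat.card D).factorization p) : ∃ E, IsDefectGroup p M B E ∧ E ≤ inertia N (θ : N → ℂ) ∧
      df p θ = (Nat.card (E ⊓ N : Subgroup G)).factorization p ∧ ∃ ξ : IrrCharacter (N ⊔ E : Subgroup G),
        ∀ n : N, (ξ : (N ⊔ E : Subgroup G) → ℂ) ⟨n, le_sup_left (b := E) n.2⟩ = (θ : N → ℂ) n := by
  obtain ⟨hNT, B', D', hB', hD', hD'', ψ, hψ, h1, h2⟩ := cliff0 hM hB hD hχ hov h0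
  have h3 : Ov (N.subgroupOf (inertia N (θ : N → ℂ))).subtype (ψ : inertia N (θ : N → ℂ) → ℂ)
      (tr (Subgroup.subgroupOfEquivOfLe hNT) θ : N.subgroupOf (inertia N (θ : N → ℂ)) → ℂ) :=
    (ov_src_iff (Subgroup.subgroupOfEquivOfLe hNT) (fun _ => rfl) _ θ).2 h1
  obtain ⟨ξ, h4⟩ := ext0 hM hB' hD' (inv_tr θ hNT) hψ h3 h2
  refine ⟨_, hD'', Subgroup.map_subtype_le _, ?_, ?_⟩
  · have h5 := tb0 hM hB' hD' (inv_tr θ hNT) hψ h3
    have h6 := TT.df_le_inf hM hB' hD' ⟨ψ, hψ, h3⟩ (inv_tr θ hNT)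
    rw [df_tr, card_inf_sub] at h5 h6
    omega
  · have h5 : (N.subgroupOf (inertia N (θ : N → ℂ)) ⊔ D').map (inertia N (θ : N → ℂ)).subtype =
        N ⊔ D'.map (inertia N (θ : N → ℂ)).subtype := by
      rw [Subgroup.map_sup, Subgroup.subgroupOf_map_subtype, inf_eq_left.2 hNT]
    let e := ((N.subgroupOf (inertia N (θ : N → ℂ)) ⊔ D').equivMapOfInjective _
      (inertia N (θ : N → ℂ)).subtype_injective).trans (MulEquiv.subgroupCongr h5)
    refine ⟨tr e.symm ξ, fun n => ?_⟩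
    rw [tr_apply]
    refine Eq.trans (congrArg _ ?_) (h4 ⟨⟨n, hNT n.2⟩, n.2⟩)
    rw [MulEquiv.symm_apply_eq]
    rfl

omit hN in
/-- a central `p`-element in the kernel of all members -/
theorem eq_one_of_ker (hM : IsPModular p M) (hB : IsPBlock M B) {c : G} (hc : c ∈ Subgroup.center G) {k : ℕ}
    (hk : c ^ p ^ k = 1) (h : ∀ χ ∈ B, (χ : G → ℂ) c = (χ : G → ℂ) 1) : c = 1 := by
  have := Local.isPrime_of_isPModular hM
  have hp : p.Prime := Fact.out
  obtain ⟨D, g, hg, -⟩ := H592.Defect.exists_defectGroup p hM hB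
  have h1 : ¬ p ∣ orderOf g := H614.Spin.isPRegular_of_isDefectClass hM hB hg
  have h2 : ¬ p ∣ orderOf (g * c) := fun h2 => hg.2.1 (by
    have h3 := S0907.result p M hM B hB 1 (g * c) (by rw [orderOf_one]; exact hp.not_dvd_one) h2
    rw [finsum_mem_congr rfl fun χ hχ => by
      rw [apply_mul_central χ hc, h χ hχ, div_self (isIrr_apply_one_ne_zero χ.2), one_mul]] at h3
    rw [Basic.blockCoeff_def, h3, mul_zero]
    exact Local.memLocalIdeal_zero)
  have h3 : Commute g⁻¹ (g * c) := ((Commute.refl g).mul_right (Subgroup.mem_center_iff.1 hc g)).inv_left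
  have h4 := h3.orderOf_mul_dvd_mul_orderOf
  rw [inv_mul_cancel_left, orderOf_inv] at h4
  obtain ⟨j, -, hj⟩ := (Nat.dvd_prime_pow hp).1 (orderOf_dvd_of_pow_eq_one hk)
  rcases j with _ | j
  · exact orderOf_eq_one_iff.1 hj
  · exact absurd (hp.dvd_mul.1 ((hj ▸ dvd_pow_self p j.succ_ne_zero).trans h4)) (not_or.2 ⟨h1, h2⟩)

omit hN in
/-- central `p`-subgroups -/
theorem ab_of_central (hM : IsPModular p M) (hB : IsPBlock M B) (hD : IsDefectGroup p M B D) (hz : HZ p B)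
    [(D ⊓ Subgroup.center G).Normal] (ih : BZ p M (G ⧸ (D ⊓ Subgroup.center G))) : Ab D := by
  have hDp := H592.Defect.isPGroup_of_isDefectGroup hD
  have key : ∀ χ ∈ B, ⁅D, D⁆ ≤ D ⊓ Subgroup.center G ∧ ∀ x ∈ D, ∀ y ∈ D, (χ : G → ℂ) ⁅x, y⁆ = (χ : G → ℂ) 1 := by
    intro χ hχ
    obtain ⟨c, hc⟩ := exists_om χ
    have h1 : ∀ z : Subgroup.center G, (χ : G → ℂ) z = (χ : G → ℂ) 1 * (c z : ℂ) := fun z => by
      rw [← hc, one_mul]
    obtain ⟨⟨μ, hμ⟩, h2⟩ := PB.pb hM hB hD inf_le_right (hDp.to_le inf_le_left) inf_le_left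
      (c.comp (Subgroup.inclusion inf_le_right)) ⟨χ, hχ, fun z => h1 (Subgroup.inclusion inf_le_right z)⟩
      (fun ψ hψ _ => hz ψ hψ) ih
    refine ⟨h2, fun x hx y hy => ?_⟩
    have h3 := h2 (Subgroup.commutator_mem_commutator hx hy)
    have h4 : c ⟨_, h3.2⟩ = 1 := (hμ ⟨_, h3⟩).symm.trans (by
      change μ ⁅(⟨x, hx⟩ : D), (⟨y, hy⟩ : D)⁆ = 1
      rw [map_commutatorElement, commutatorElement_eq_one_iff_mul_comm]
      exact mul_comm _ _)
    have h5 := h1 ⟨_, h3.2⟩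
    rwa [h4, Units.val_one, mul_one] at h5
  have := Local.isPrime_of_isPModular hM
  obtain ⟨χ, hχ⟩ := Basic.isPBlock_nonempty hB
  intro x hx y hy
  have h1 := (key χ hχ).1 (Subgroup.commutator_mem_commutator hx hy)
  obtain ⟨k, hk⟩ := hDp ⟨_, h1.1⟩
  exact commutatorElement_eq_one_iff_mul_comm.1
    (eq_one_of_ker hM hB h1.2 (congrArg Subtype.val hk) fun ψ hψ => (key ψ hψ).2 x hx y hy)

omit hN in
/-- normal subgroups of order prime to `p` in a kernel -/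
theorem ab_of_ker (hM : IsPModular p M) (hB : IsPBlock M B) (hD : IsDefectGroup p M B D) (hz : HZ p B)
    (U : Subgroup G) [U.Normal] (hU : ¬ p ∣ Nat.card U) {χ₀ : IrrCharacter G} (h₀ : χ₀ ∈ B)
    (h : ∀ z ∈ U, (χ₀ : G → ℂ) z = (χ₀ : G → ℂ) 1) (ih : BZ p M (G ⧸ U)) : Ab D := by
  have := Local.isPrime_of_isPModular hM
  obtain ⟨θ₀, rfl⟩ := exists_infl U χ₀ h
  have hb : IsPBlock M (blockOf M (θ₀ : G ⧸ U → ℂ)) := ⟨θ₀, rfl⟩
  obtain ⟨D', hD'⟩ := H592.Defect.exists_defectGroup p hM hb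
  have hin : ∀ χ ∈ blockOf M (θ₀ : G ⧸ U → ℂ), ∀ ψ : IrrCharacter G,
      (ψ : G → ℂ) = (χ : G ⧸ U → ℂ) ∘ QuotientGroup.mk → ψ ∈ B := fun χ hχ ψ hψ =>
    Basic.isPBlock_mem_of_sameBlock hB h₀ (by rw [hψ]; exact S0941.sameBlock_inflate U hχ)
  obtain ⟨P, hP, h1⟩ := S4433.result p M hM U _ hb B hB hin D' hD'
  have hz' : HZ p (blockOf M (θ₀ : G ⧸ U → ℂ)) := eq_iff_hz.1 fun θ hθ θ' hθ' =>
    eq_iff_hz.2 hz (H644.CentralQuot.infl U θ) (hin θ hθ _ rfl) (H644.CentralQuot.infl U θ') (hin θ' hθ' _ rfl)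
  have hPp := H592.Defect.isPGroup_of_isDefectGroup hP
  have h2 : D' = P.map (QuotientGroup.mk' U) := H592.Defect.eq_of_le_of_factorization p
    (H592.Defect.isPGroup_of_isDefectGroup hD') (hPp.map _) h1 (by
      have h3 := df_hz hM hb hD' hz' (Basic.mem_blockOf_self θ₀)
      have h4 := df_hz hM hB hP hz h₀
      have h5 := df_add (p := p) θ₀
      have h6 := df_add (p := p) (H644.CentralQuot.infl U θ₀)
      have h7 := fac_mul (p := p) (Subgroup.card_eq_card_quotient_mul_card_subgroup U).symm Nat.card_pos.ne'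
      have h8 := fac_le (p := p) (P.card_map_dvd (QuotientGroup.mk' U)) Nat.card_pos.ne'
      rw [Nat.factorization_eq_zero_of_not_dvd hU] at h7
      rw [nu_infl] at h6
      omega)
  have h3 := ih _ _ hb hD' hz'
  rw [h2] at h3
  refine ab_of_defect hM hB hP (fun x hx y hy => ?_) hD
  have h4 : ⁅x, y⁆ ∈ U := by
    rw [← QuotientGroup.eq_one_iff, ← QuotientGroup.mk'_apply, map_commutatorElement,
      commutatorElement_eq_one_iff_mul_comm]
    exact h3 _ ⟨x, hx, rfl⟩ _ ⟨y, hy, rfl⟩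
  have h5 : ⁅x, y⁆ ∈ P := P.mul_mem (P.mul_mem (P.mul_mem hx hy) (P.inv_mem hx)) (P.inv_mem hy)
  obtain ⟨k, hk⟩ := hPp ⟨_, h5⟩
  have h6 : ⁅x, y⁆ ^ p ^ k = 1 := congrArg Subtype.val hk
  have h7 : ⁅x, y⁆ ^ Nat.card U = 1 := congrArg Subtype.val (pow_card_eq_one' (x := (⟨_, h4⟩ : U)))
  have h8 := pow_gcd_eq_one.2 ⟨h6, h7⟩
  rw [Nat.Coprime.pow_left k ((Nat.Prime.coprime_iff_not_dvd Fact.out).2 hU), pow_one] at h8
  exact commutatorElement_eq_one_iff_mul_comm.1 h8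

end Mn

/-- **[EXT]** -/
theorem boxEXT {p : ℕ} [Fact p.Prime] {M : Ideal AlgInt} : BoxEXT p M := by
  classical
  intro hM G _ _ N hN B D hB hD χ hχ h0 θ hov
  obtain ⟨E, hE, h1, h2, ξ, h3⟩ := Mn.ext1 hM hB hD hχ hov h0
  obtain ⟨g, rfl⟩ := conj_defect hM hB hD hE
  refine ⟨g, h2, fun d hd n n' e => ?_, fun x => if h : x ∈ N ⊔ cj g D then ξ.1 ⟨x, h⟩ else 0, ?_, fun n => ?_⟩
  · rw [← mem_inertia'.1 (h1 hd) n]
    exact congrArg _ (Subtype.ext e)
  · convert ξ.2 using 1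
    exact funext fun x => dif_pos x.2
  · exact (dif_pos (le_sup_left (b := cj g D) n.2)).trans (h3 n)

/-- **[MIN]** -/
theorem boxMin {p : ℕ} [Fact p.Prime] {M : Ideal AlgInt} : BoxMin p M := by
  intro G _ _ B D c
  have hM := c.hM
  have := Local.isPrime_of_isPModular hM
  have hp : p.Prime := Fact.out
  have hz := eq_iff_hz.1 c.hz
  have hDp := H592.Defect.isPGroup_of_isDefectGroup c.hD
  have ih : ∀ (H : Type) [Group H] [Finite H], Lt H G → TB.BZ p M H := fun H _ _ h b E hb hE h1 =>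
    c.ih H h b E hb hE (eq_iff_hz.2 h1)
  have st := fun (N : Subgroup G) [N.Normal] =>
    (TB.cov_or hM c.hB c.hD hz N fun T hT _ => ih T (lt_sub T hT)).resolve_left c.na
  have hzc := fun (N : Subgroup G) [N.Normal] => TB.hn hM c.hB hz (st N).1
  have ab : ∀ (N : Subgroup G) [N.Normal], N ≠ ⊤ → Ab (D ⊓ N) := fun N _ h x hx y hy =>
    congrArg Subtype.val (ih N (lt_sub N h) _ _ (st N).1 (defect_cov hM c.hB c.hD (st N).1) (hzc N)
      ⟨x, hx.2⟩ hx ⟨y, hy.2⟩ hy)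
  have hZ : ¬ p ∣ Nat.card (Subgroup.center G) := fun h => by
    obtain ⟨z, hz'⟩ := exists_prime_orderOf_dvd_card' p h
    have := zpowers_normal z.2
    have h3 : orderOf (z : G) = p := by rw [Subgroup.orderOf_coe, hz']
    have h4 := (H658.isDefectGroup_defl hM (Subgroup.zpowers_le.2 z.2)
      (IsPGroup.of_card (n := 1) (by rw [Nat.card_zpowers, h3, pow_one])) c.hB c.hD).1 (Subgroup.mem_zpowers _)
    have := TB.normal_of_le (inf_le_right : D ⊓ Subgroup.center G ≤ _)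
    refine c.na (Mn.ab_of_central hM c.hB c.hD hz (ih _ (lt_quot _ fun h5 => ?_)))
    rw [Subgroup.mem_bot.1 (h5.le ⟨h4, z.2⟩), orderOf_one] at h3
    exact hp.ne_one h3.symm
  have hf : ∀ χ ∈ B, ∀ z ∈ Subgroup.center G, (χ : G → ℂ) z = (χ : G → ℂ) 1 → z = 1 := fun χ hχ z hz' h => by
    by_contra h1
    have := zpowers_normal hz'
    exact c.na (Mn.ab_of_ker hM c.hB c.hD hz (Subgroup.zpowers z)
      (fun h2 => hZ (h2.trans (Subgroup.card_dvd_of_le (Subgroup.zpowers_le.2 hz')))) hχ (triv_zpowers χ hz' h)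
      (ih _ (lt_quot _ fun h2 => h1 (Subgroup.zpowers_eq_bot.1 h2))))
  obtain ⟨χ₀, h₀⟩ := Basic.isPBlock_nonempty c.hB
  refine { c with
    blk := fun N _ => (st N).1
    stab := fun N _ => (st N).2
    hzc := fun N _ => eq_iff_hz.2 (hzc N)
    ab := ab
    gen := fun N _ h => by_contra fun h1 => c.na ((ab N h1).mono (le_inf le_rfl h))
    zero := fun N _ h => by_contra fun h' => ?_
    zp := hZ
    cyc := cyclic_center χ₀ (hf χ₀ h₀)
    faith := hf
    ext := fun N _ θ ⟨χ, hχ, hov⟩ => (boxEXT hM G N B D c.hB c.hD χ hχ (TB.df_hz hM c.hB c.hD hz hχ) θ hov).imp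
      fun _ h => h.2 }
  have h3 : D ⊓ (N ⊔ Subgroup.center G) = ⊥ := by
    rw [eq_bot_iff]
    rintro d ⟨hd, hd'⟩
    obtain ⟨n, hn, z, hz, h4⟩ := Subgroup.mem_sup_of_normal_right.1 hd'
    have h5 : d ^ Nat.card (Subgroup.center G) ∈ D ⊓ N := by
      refine ⟨D.pow_mem hd _, ?_⟩
      have h6 : z ^ Nat.card (Subgroup.center G) = 1 :=
        congrArg Subtype.val (pow_card_eq_one' (x := (⟨z, hz⟩ : Subgroup.center G)))
      have h7 : Commute n z := Subgroup.mem_center_iff.1 hz n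
      rw [← h4, h7.mul_pow, h6, mul_one]
      exact N.pow_mem hn _
    rw [h, Subgroup.mem_bot] at h5
    obtain ⟨k, hk⟩ := hDp ⟨d, hd⟩
    have h6 : d ^ p ^ k = 1 := congrArg Subtype.val hk
    have h7 := (pow_gcd_eq_one.2 ⟨h6, h5⟩)
    rw [Nat.Coprime.pow_left k ((Nat.Prime.coprime_iff_not_dvd hp).2 hZ), pow_one] at h7
    exact Subgroup.mem_bot.2 h7
  have h4 : Subgroup.center G < N ⊔ Subgroup.center G :=
    lt_of_le_of_ne le_sup_right fun h5 => h' (h5 ▸ le_sup_left)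
  refine c.na fun x hx y hy => commutatorElement_eq_one_iff_mul_comm.1 (Subgroup.mem_bot.1 (h3.le ⟨?_, ?_⟩))
  · exact D.mul_mem (D.mul_mem (D.mul_mem hx hy) (D.inv_mem hx)) (D.inv_mem hy)
  · exact TB.comm_mem hM c.hB c.hD hz (st _).1 (fun H _ _ h5 =>
      ih H (Or.inl (h5.trans_lt (Subgroup.index_strictAnti h4)))) x hx y hy

end Cfsg.Agent.BH
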